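import Groth.Agent.S0307
import Groth.Agent.S11661
import Groth.Agent.InjHull.Noetherian
import Mathlib.Algebra.Category.ModuleCat.Limits
import Mathlib.RingTheory.Ideal.Quotient.Operations
import Mathlib.RingTheory.Artinian.Module
import Mathlib.RingTheory.Artinian.Ring
import Mathlib.RingTheory.KrullDimension.Zero

/-!
Injective modules over a Noetherian ring are filtered unions of modules finite over Artinian algebras.
-/

set_option autoImplicit false
set_option linter.style.haveILetI false
universe u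

open CategoryTheory CategoryTheory.Limits DirectSum

namespace Groth.Agent.InjColim

variable (A : Type u) [CommRing A]

/-- Finite over some Artinian algebra, compatibly. -/
def Good (X : Type u) [AddCommGroup X] [Module A X] : Prop :=
  ∃ (B : Type u) (_ : CommRing B) (_ : Algebra A B) (_ : IsArtinianRing B) (_ : Module B X) (_ : IsScalarTower A B X),
    Module.Finite B X

variable {A}

theorem Good.congr {X Y : Type u} [AddCommGroup X] [Module A X] [AddCommGroup Y] [Module A Y] (h : Good A X)
    (e : Y ≃ₗ[A] X) : Good A Y := by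
  obtain ⟨B, _, _, _, _, _, _⟩ := h
  letI : Module B Y := e.toAddEquiv.module B
  haveI : IsScalarTower A B Y := IsScalarTower.of_algebraMap_smul fun a y => by
    change e.symm (algebraMap A B a • e y) = a • y
    rw [algebraMap_smul, ← map_smul, e.symm_apply_apply]
  let e' : Y ≃ₗ[B] X :=
    { e.toAddEquiv with map_smul' := fun b y => by change e (e.symm (b • e y)) = _; rw [e.apply_symm_apply]; rfl }
  exact ⟨B, inferInstance, inferInstance, inferInstance, inferInstance, inferInstance, Module.Finite.equiv e'.symm⟩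

theorem Good.pi {ι : Type u} [Finite ι] {X : ι → Type u} [∀ i, AddCommGroup (X i)] [∀ i, Module A (X i)]
    (h : ∀ i, Good A (X i)) : Good A (∀ i, X i) := by
  classical
  cases nonempty_fintype ι
  choose B hB hAB hart hmod htow hfin using h
  letI : Module (∀ i, B i) (∀ i, X i) := Pi.module'
  haveI : IsScalarTower A (∀ i, B i) (∀ i, X i) := IsScalarTower.of_algebraMap_smul fun a x => funext fun i =>
    algebraMap_smul (B i) a (x i)
  refine ⟨∀ i, B i, inferInstance, inferInstance, inferInstance, inferInstance, inferInstance, ?_⟩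
  choose n g hg using fun i => Module.Finite.exists_fin (R := B i) (M := X i)
  refine ⟨⟨(Finset.univ : Finset (Σ i, Fin (n i))).image fun q => Pi.single q.1 (g q.1 q.2), ?_⟩⟩
  rw [eq_top_iff]
  intro x _
  rw [← Finset.univ_sum_single x]
  refine Submodule.sum_mem _ fun i _ => ?_
  have hx : x i ∈ Submodule.span (B i) (Set.range (g i)) := by rw [hg i]; trivial
  generalize x i = xi at hx ⊢
  induction hx using Submodule.span_induction with
  | mem y hy =>
    obtain ⟨j, rfl⟩ := hy
    exact Submodule.subset_span (Finset.mem_coe.2 (Finset.mem_image.2 ⟨⟨i, j⟩, Finset.mem_univ _, rfl⟩))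
  | zero => rw [Pi.single_zero]; exact zero_mem _
  | add a b _ _ ha hb => rw [Pi.single_add]; exact add_mem ha hb
  | smul c a _ ha =>
    have : (Pi.single i (c • a) : ∀ i, X i) = (Pi.single i c : ∀ i, B i) • (Pi.single i a : ∀ i, X i) := funext fun j => by
      rw [Pi.smul_apply']
      by_cases hij : j = i
      · subst hij; simp
      · rw [Pi.single_eq_of_ne hij, Pi.single_eq_of_ne hij, Pi.single_eq_of_ne hij, zero_smul]
    rw [this]
    exact Submodule.smul_mem _ _ ha

theorem good_localized [IsNoetherianRing A] (p : Ideal A) [p.IsPrime] (M : Type u) [AddCommGroup M] [Module A M]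
    [Module.Finite A M] (k : ℕ) (hk : ∀ a ∈ p ^ k, ∀ x : M, a • x = 0) : Good A (LocalizedModule p.primeCompl M) := by
  let L := Localization.AtPrime p
  let I : Ideal L := IsLocalRing.maximalIdeal L ^ k
  have htor : Module.IsTorsionBySet L (LocalizedModule p.primeCompl M) (I : Set L) := by
    intro x ⟨a, ha⟩
    change a • x = 0
    replace ha : a ∈ IsLocalRing.maximalIdeal L ^ k := ha
    rw [← Localization.AtPrime.map_eq_maximalIdeal, ← Ideal.map_pow] at ha
    induction ha using Submodule.span_induction with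
    | mem y hy =>
      obtain ⟨b, hb, rfl⟩ := hy
      induction x using LocalizedModule.induction_on with
      | h m s => rw [algebraMap_smul, LocalizedModule.smul'_mk, hk b hb m, LocalizedModule.zero_mk]
    | zero => exact zero_smul _ _
    | add a b _ _ ha hb => rw [add_smul, ha, hb, add_zero]
    | smul c a _ ha => rw [smul_eq_mul, mul_smul, ha, smul_zero]
  letI : Module (L ⧸ I) (LocalizedModule p.primeCompl M) := htor.module
  haveI : IsScalarTower L (L ⧸ I) (LocalizedModule p.primeCompl M) := htor.isScalarTower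
  haveI : IsScalarTower A (L ⧸ I) (LocalizedModule p.primeCompl M) := IsScalarTower.of_algebraMap_smul fun a x => by
    rw [IsScalarTower.algebraMap_apply A L (L ⧸ I), algebraMap_smul, algebraMap_smul]
  haveI : IsArtinianRing (L ⧸ I) := by
    haveI : Ring.KrullDimLE 0 (L ⧸ I) := Ring.krullDimLE_zero_iff.2 fun P hP => by
      haveI := hP
      have hle : IsLocalRing.maximalIdeal L ≤ P.comap (Ideal.Quotient.mk I) := fun a ha =>
        Ideal.IsPrime.mem_of_pow_mem (Ideal.IsPrime.comap _) k (by
          rw [Ideal.mem_comap, Ideal.Quotient.eq_zero_iff_mem.2 (Ideal.pow_mem_pow ha k)]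
          exact zero_mem _)
      have heq := (IsLocalRing.maximalIdeal.isMaximal L).eq_of_le
        (Ideal.IsPrime.comap (Ideal.Quotient.mk I)).ne_top hle
      rw [← Ideal.map_comap_of_surjective _ Ideal.Quotient.mk_surjective P, ← heq]
      exact Ideal.IsMaximal.map_of_surjective_of_ker_le Ideal.Quotient.mk_surjective (by
        rw [Ideal.mk_ker]
        exact heq.symm ▸ (Ideal.mk_ker (I := I)).symm.le.trans (Ideal.ker_le_comap _))
    exact IsNoetherianRing.isArtinianRing_of_krullDimLE_zero
  exact ⟨L ⧸ I, inferInstance, inferInstance, inferInstance, inferInstance, inferInstance,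
    Module.Finite.of_restrictScalars_finite L (L ⧸ I) _⟩

section Component

variable {E : Type u} [AddCommGroup E] [Module A E] (p : Ideal A) [p.IsPrime]

/-- Saturation of a submodule away from `p`. -/
def sat (F : Submodule A E) : Submodule A E where
  carrier := {x | ∃ s ∈ p.primeCompl, s • x ∈ F}
  zero_mem' := ⟨1, one_mem _, by simp⟩
  add_mem' := by
    rintro x y ⟨s, hs, hx⟩ ⟨t, ht, hy⟩
    refine ⟨s * t, mul_mem hs ht, ?_⟩
    rw [smul_add, mul_comm s t, mul_smul, mul_comm t s, mul_smul]
    exact add_mem (F.smul_mem t hx) (F.smul_mem s hy)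
  smul_mem' := by
    rintro a x ⟨s, hs, hx⟩
    exact ⟨s, hs, by rw [smul_comm]; exact F.smul_mem a hx⟩

theorem good_sat [IsNoetherianRing A] (hinv : ∀ s ∈ p.primeCompl, Function.Bijective fun x : E => s • x)
    (htor : ∀ s ∈ p, ∀ x : E, ∃ n : ℕ, s ^ n • x = 0) (F : Submodule A E) (hF : F.FG) : Good A (sat p F) := by
  haveI : Module.Finite A F := Module.Finite.iff_fg.2 hF
  obtain ⟨t, ht⟩ := hF
  have hrad : p ≤ F.annihilator.radical := fun s hs => by
    choose n hn using fun x : E => htor s hs x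
    refine ⟨t.sup n, ?_⟩
    rw [← ht, Submodule.mem_annihilator_span]
    rintro ⟨x, hx⟩
    obtain ⟨d, hd⟩ := Nat.exists_eq_add_of_le (Finset.le_sup (f := n) hx)
    rw [hd, pow_add, mul_comm, mul_smul, hn, smul_zero]
  obtain ⟨k, hk⟩ := Ideal.exists_pow_le_of_le_radical_of_fg hrad (IsNoetherian.noetherian p)
  refine (good_localized p F k fun a ha x => Subtype.ext (Submodule.mem_annihilator.1 (hk ha) x x.2)).congr ?_
  have hle : F ≤ sat p F := fun x hx => ⟨1, one_mem _, by rwa [one_smul]⟩
  haveI : IsLocalizedModule p.primeCompl (Submodule.inclusion hle) :=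
    { map_units := fun s => (Module.End.isUnit_iff _).2 ⟨fun x y h => Subtype.ext
          ((hinv s.1 s.2).1 (congrArg Subtype.val h)), fun y => by
          obtain ⟨x, hx⟩ := (hinv s.1 s.2).2 (y : E)
          obtain ⟨r, hr, hry⟩ := y.2
          refine ⟨⟨x, r * s.1, mul_mem hr s.2, ?_⟩, Subtype.ext hx⟩
          rw [mul_smul]
          exact (congrArg (r • ·) hx) ▸ hry⟩
      surj := fun y => by
        obtain ⟨r, hr, hry⟩ := y.2
        exact ⟨(⟨_, hry⟩, ⟨r, hr⟩), rfl⟩
      exists_of_eq := fun {x y} h => ⟨1, by rw [show x = y from Subtype.ext (congrArg Subtype.val h :)]⟩ }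
  exact (IsLocalizedModule.iso p.primeCompl (Submodule.inclusion hle)).symm

end Component

theorem exists_colimit_union {J : Type u} [AddCommGroup J] [Module A J] {ι : Type u} [Preorder ι] [Nonempty ι]
    [IsDirectedOrder ι] (N : ι → Submodule A J) (hmono : Monotone N) (hcov : ∀ x, ∃ i, x ∈ N i) :
    ∃ (D : ι ⥤ ModuleCat.{u} A) (c : Cocone D) (_ : IsColimit c), Nonempty (c.pt ≅ ModuleCat.of A J) ∧
      ∀ i, Nonempty ((D.obj i) ≃ₗ[A] N i) := by
  classical
  let f : ∀ i j : ι, i ≤ j → N i →ₗ[A] N j := fun i j h => Submodule.inclusion (hmono h)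
  haveI : DirectedSystem (fun i => ↥(N i)) fun i j h => f i j h := ⟨fun _ _ => rfl, fun _ _ _ _ _ _ => rfl⟩
  let L : Module.DirectLimit (fun i => ↥(N i)) f →ₗ[A] J :=
    Module.DirectLimit.lift A ι (fun i => ↥(N i)) f (fun i => (N i).subtype) fun _ _ _ _ => rfl
  have hL : Function.Bijective L := by
    refine ⟨(injective_iff_map_eq_zero L).2 fun z hz => ?_, fun x => ?_⟩
    · obtain ⟨i, x, rfl⟩ := Module.DirectLimit.exists_of z
      have hx : x = 0 := Subtype.ext (((Module.DirectLimit.lift_of (R := A) (ι := ι) (G := fun i => ↥(N i)) (f := f)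
        (g := fun i => (N i).subtype) (fun _ _ _ _ => rfl) x).symm.trans hz) :)
      rw [hx, map_zero]
    · obtain ⟨i, hi⟩ := hcov x
      exact ⟨Module.DirectLimit.of A ι (fun i => ↥(N i)) f i ⟨x, hi⟩, Module.DirectLimit.lift_of _ _ _⟩
  exact ⟨ModuleCat.directLimitDiagram (fun i => ↥(N i)) f, ModuleCat.directLimitCocone (fun i => ↥(N i)) f,
    ModuleCat.directLimitIsColimit (fun i => ↥(N i)) f, ⟨(LinearEquiv.ofBijective L hL).toModuleIso⟩,
    fun i => ⟨LinearEquiv.refl A (N i)⟩⟩

theorem exists_good_sums [IsNoetherianRing A] {κ : Type u} (E : κ → Type u) [∀ i, AddCommGroup (E i)]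
    [∀ i, Module A (E i)] (p : κ → Ideal A) [∀ i, (p i).IsPrime]
    (hinv : ∀ i, ∀ s ∈ (p i).primeCompl, Function.Bijective fun x : E i => s • x)
    (htor : ∀ i, ∀ s ∈ p i, ∀ x : E i, ∃ n : ℕ, s ^ n • x = 0) :
    ∃ (ι : Type u) (_ : Preorder ι) (_ : Nonempty ι) (_ : IsDirectedOrder ι) (N : ι → Submodule A (⨁ i, E i)),
      Monotone N ∧ (∀ x, ∃ F, x ∈ N F) ∧ ∀ F, Good A (N F) := by
  classical
  let π : ∀ i, (⨁ j, E j) →ₗ[A] E i := DirectSum.component A κ E
  let N : {F : Submodule A (⨁ i, E i) // F.FG} → Submodule A (⨁ i, E i) := fun F =>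
    ⨅ i, (sat (p i) (F.1.map (π i))).comap (π i)
  haveI : Nonempty {F : Submodule A (⨁ i, E i) // F.FG} := ⟨⟨⊥, Submodule.fg_bot⟩⟩
  haveI : IsDirectedOrder {F : Submodule A (⨁ i, E i) // F.FG} := ⟨fun F G => ⟨⟨F.1 ⊔ G.1, F.2.sup G.2⟩,
    show F.1 ≤ F.1 ⊔ G.1 from le_sup_left, show G.1 ≤ F.1 ⊔ G.1 from le_sup_right⟩⟩
  refine ⟨_, inferInstance, inferInstance, inferInstance, N, fun F G h x hx => ?_, fun x => ?_, fun F => ?_⟩
  · rw [Submodule.mem_iInf] at hx ⊢
    intro i
    obtain ⟨s, hs, hsx⟩ := hx i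
    exact ⟨s, hs, Submodule.map_mono h hsx⟩
  · exact ⟨⟨Submodule.span A {x}, Submodule.fg_span_singleton x⟩, (Submodule.mem_iInf _).2 fun i =>
      ⟨1, one_mem _, by rw [one_smul]; exact Submodule.mem_map_of_mem (Submodule.mem_span_singleton_self x)⟩⟩
  · obtain ⟨t, ht⟩ := F.2
    let T : Finset κ := t.biUnion fun x => DFinsupp.support x
    have hzero : ∀ i ∉ T, ∀ y ∈ sat (p i) (F.1.map (π i)), y = 0 := fun i hi y hy => by
      obtain ⟨s, hs, hsy⟩ := hy
      have h0 : F.1.map (π i) = ⊥ := by
        rw [← ht, Submodule.map_span, Submodule.span_eq_bot]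
        rintro _ ⟨x, hx, rfl⟩
        by_contra hne
        exact hi (Finset.mem_biUnion.2 ⟨x, hx, DFinsupp.mem_support_iff.2 hne⟩)
      rw [h0, Submodule.mem_bot] at hsy
      exact (hinv i s hs).1 (hsy.trans (smul_zero s).symm)
    let φ : N F →ₗ[A] (∀ i : T, sat (p i) (F.1.map (π i))) :=
      LinearMap.pi fun i => (π i).restrict fun x hx => (Submodule.mem_iInf _).1 hx i
    have hφ : Function.Bijective φ := by
      refine ⟨(injective_iff_map_eq_zero φ).2 fun x hx => Subtype.ext (DFinsupp.ext fun i => ?_), fun y => ?_⟩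
      · by_cases hi : i ∈ T
        · exact congrArg Subtype.val (congrFun hx ⟨i, hi⟩)
        · exact hzero i hi _ ((Submodule.mem_iInf _).1 x.2 i)
      · let x : ⨁ i, E i := DFinsupp.mk T fun i => (y i).1
        have hx : ∀ i (hi : i ∈ T), π i x = (y ⟨i, hi⟩).1 := fun i hi => by
          change (DFinsupp.mk (β := E) T fun i => (y i).1) i = _
          exact DFinsupp.mk_of_mem hi
        refine ⟨⟨x, (Submodule.mem_iInf _).2 fun i => ?_⟩, funext fun i => Subtype.ext (hx i i.2)⟩
        by_cases hi : i ∈ T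
        · rw [Submodule.mem_comap, hx i hi]; exact (y ⟨i, hi⟩).2
        · rw [Submodule.mem_comap, show π i x = 0 by change (DFinsupp.mk (β := E) T fun i => (y i).1) i = 0; exact DFinsupp.mk_of_notMem hi]; exact zero_mem _
    exact (Good.pi fun i : T => good_sat (p i) (hinv i) (htor i) _ (F.2.map (π i))).congr
      (LinearEquiv.ofBijective φ hφ)

theorem exists_colimit [IsNoetherianRing A] (J : Type u) [AddCommGroup J] [Module A J] [Module.Injective A J] :
    ∃ (ι : Type u) (_ : SmallCategory ι) (_ : IsFiltered ι) (D : ι ⥤ ModuleCat.{u} A) (c : Cocone D) (_ : IsColimit c),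
      Nonempty (c.pt ≅ ModuleCat.of A J) ∧ ∀ i : ι, Good A (D.obj i) := by
  classical
  obtain ⟨κ, E, hint, hE⟩ := Groth.Agent.S0307.result A J inferInstance
  have hp : ∀ i, ∃ (p : Ideal A) (_ : p.IsPrime),
      (∀ s ∈ p.primeCompl, Function.Bijective fun x : E i => s • x) ∧ ∀ s ∈ p, ∀ x : E i, ∃ n : ℕ, s ^ n • x = 0 := by
    intro i
    haveI := (hE i).2
    obtain ⟨p, hp, f, hf⟩ := InjHull.exists_quotient_hull_of_indecomposable (hE i).1
    refine ⟨p, hp, fun s hs => ?_, fun s hs x => ?_⟩
    · have hb := ((Groth.Agent.S11661.result A p.primeCompl p (E i) f hf).2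
        (Set.disjoint_left.2 fun a ha ha' => ha' ha)).1
      have hu := (Module.End.isUnit_iff _).1
        (IsLocalizedModule.map_units (LocalizedModule.mkLinearMap p.primeCompl (E i)) ⟨s, hs⟩)
      refine ⟨fun x y h => hb.1 (hu.1 ?_), fun y => ?_⟩
      · change s • LocalizedModule.mkLinearMap p.primeCompl (E i) x = s • LocalizedModule.mkLinearMap p.primeCompl (E i) y
        rw [← map_smul, ← map_smul, show s • x = s • y from h]
      · obtain ⟨z, hz⟩ := hu.2 (LocalizedModule.mkLinearMap p.primeCompl (E i) y)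
        obtain ⟨x, rfl⟩ := hb.2 z
        refine ⟨x, hb.1 ?_⟩
        rw [map_smul]
        exact hz
    · haveI := (Groth.Agent.S11661.result A (Submonoid.powers s) p (E i) f hf).1
        ⟨s, hs, Submonoid.mem_powers s⟩
      obtain ⟨⟨_, n, rfl⟩, hn⟩ := (IsLocalizedModule.eq_zero_iff (Submonoid.powers s)
        (LocalizedModule.mkLinearMap (Submonoid.powers s) (E i))).1 (Subsingleton.elim (LocalizedModule.mkLinearMap _ _ x) 0)
      exact ⟨n, hn⟩
  choose p hpp hinv htor using hp
  obtain ⟨ι, _, _, _, N, hmono, hcov, hgood⟩ := exists_good_sums (fun i => E i) p hinv htor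
  obtain ⟨D, c, hc, ⟨ec⟩, hD⟩ := exists_colimit_union N hmono hcov
  exact ⟨ι, inferInstance, inferInstance, D, c, hc,
    ⟨ec ≪≫ (LinearEquiv.ofBijective (DirectSum.coeLinearMap E) hint).toModuleIso⟩,
    fun i => (hgood i).congr (hD i).some⟩

end Groth.Agent.InjColim
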